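import Cfsg.Agent.H37.HT.Fd
import Cfsg.Agent.ClassicalGeometry.PSUAutBasic

/-!
# S4933, part (O), box O.cl.psu: abelian Sylow subgroups and the centre (helper564)

* `three_of_ab` : `p` odd, `p ∣ n`, `p ∣ q + 1`, the Sylow `p`-subgroups of `PSU n F q` abelian: `n = p = 3`, `9 ∤ q + 1`.
-/

set_option autoImplicit false
set_option linter.unusedSectionVars false

open Subgroup Matrix

namespace Cfsg.Agent.H564.HT

open Cfsg Cfsg.Agent.H37.HT
open Cfsg.Agent.LieClassical.HermSiegel Cfsg.Agent.LieClassical.SUBasic Cfsg.Agent.LieClassical.HermBasic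
open Cfsg.Agent.ClassicalGeometry.PSUAutBasic

section mon

variable {F : Type} [Field F] {q n : ℕ}

/-- the translation by `m` -/
def tr (n m : ℕ) [NeZero n] : Equiv.Perm (Fin n) := Equiv.addRight (Fin.ofNat n m)

theorem tr_val {m : ℕ} [NeZero n] (i : Fin n) : ((tr n m i : Fin n) : ℕ) = (i.val + m) % n := by
  change ((i + Fin.ofNat n m : Fin n) : ℕ) = _
  rw [Fin.val_add, Fin.val_ofNat, Nat.add_mod_mod]

theorem tr_pow_val {m : ℕ} [NeZero n] (k : ℕ) (i : Fin n) : (((tr n m ^ k) i : Fin n) : ℕ) = (i.val + k * m) % n := by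
  induction k with
  | zero => rw [pow_zero, Equiv.Perm.one_apply, zero_mul, add_zero, Nat.mod_eq_of_lt i.2]
  | succ k ih => rw [pow_succ', Equiv.Perm.mul_apply, tr_val, ih, Nat.mod_add_mod, Nat.succ_mul, add_assoc]

theorem tr_pow {m p : ℕ} [NeZero n] (h : n = p * m) : tr n m ^ p = 1 := by
  ext i
  rw [tr_pow_val, ← h, Nat.add_mod_right, Equiv.Perm.one_apply, Nat.mod_eq_of_lt i.2]

theorem sign_eq_one {ι : Type} [Fintype ι] [DecidableEq ι] {σ : Equiv.Perm ι} {p : ℕ} (hp : Odd p) (h : σ ^ p = 1) :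
    Equiv.Perm.sign σ = 1 := by
  rcases Int.units_eq_one_or (Equiv.Perm.sign σ) with h1 | h1
  · exact h1
  · exfalso
    have h2 := congrArg Equiv.Perm.sign h
    rw [map_pow, h1, map_one, hp.neg_one_pow] at h2
    exact absurd h2 (by decide)

theorem perm_mul_diag (σ : Equiv.Perm (Fin n)) (a : Fin n → F) :
    σ.permMatrix F * Matrix.diagonal a = Matrix.diagonal (fun i => a (σ i)) * σ.permMatrix F := by
  ext i j
  rw [Matrix.mul_diagonal, Matrix.diagonal_mul, Equiv.Perm.permMatrix, PEquiv.toMatrix_apply]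
  by_cases h : σ i = j
  · subst h
    simp [mul_comm]
  · have h1 : j ∉ (Equiv.toPEquiv σ) i := by
      rw [Equiv.toPEquiv_apply, Option.mem_some_iff]
      exact h
    rw [if_neg h1, zero_mul, mul_zero]

/-- diagonal elements of exponent `N` -/
def dg (n : ℕ) (F : Type) [Field F] (q N : ℕ) : Subgroup (SU n F q) where
  carrier := {t | ∃ a : Fin n → F, mat t = Matrix.diagonal a ∧ ∀ i, a i ^ N = 1}
  one_mem' := ⟨fun _ => 1, by rw [mat_one, Matrix.diagonal_one], fun _ => one_pow _⟩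
  mul_mem' := by
    rintro s t ⟨a, ha, ha'⟩ ⟨b, hb, hb'⟩
    exact ⟨fun i => a i * b i, by rw [mat_mul, ha, hb, Matrix.diagonal_mul_diagonal],
      fun i => by rw [mul_pow, ha', hb', one_mul]⟩
  inv_mem' := by
    rintro t ⟨a, ha, ha'⟩
    rcases Nat.eq_zero_or_pos N with hN | hN
    · -- `N = 0`: use the determinant
      have hdet : (mat t).det = 1 := (t : Matrix.SpecialLinearGroup (Fin n) F).det_coe
      rw [ha, Matrix.det_diagonal] at hdet
      have h0 : ∀ i, a i ≠ 0 := by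
        intro i hi
        rw [Finset.prod_eq_zero (Finset.mem_univ i) hi] at hdet
        exact zero_ne_one hdet
      refine ⟨fun i => (a i)⁻¹, ?_, fun i => by rw [hN, pow_zero]⟩
      have h1 : mat t⁻¹ * mat t = 1 := by rw [← mat_mul, inv_mul_cancel, mat_one]
      calc mat t⁻¹ = mat t⁻¹ * (Matrix.diagonal a * Matrix.diagonal fun i => (a i)⁻¹) := by
            rw [Matrix.diagonal_mul_diagonal]
            have h2 : (fun i => a i * (a i)⁻¹) = fun _ => (1 : F) := funext fun i => mul_inv_cancel₀ (h0 i)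
            rw [h2, Matrix.diagonal_one, Matrix.mul_one]
        _ = Matrix.diagonal fun i => (a i)⁻¹ := by rw [← ha, ← Matrix.mul_assoc, h1, Matrix.one_mul]
    · have h0 : ∀ i, a i ≠ 0 := by
        intro i hi
        have h1 := ha' i
        rw [hi, zero_pow hN.ne'] at h1
        exact zero_ne_one h1
      refine ⟨fun i => (a i)⁻¹, ?_, fun i => by rw [inv_pow, ha', inv_one]⟩
      have h1 : mat t⁻¹ * mat t = 1 := by rw [← mat_mul, inv_mul_cancel, mat_one]
      calc mat t⁻¹ = mat t⁻¹ * (Matrix.diagonal a * Matrix.diagonal fun i => (a i)⁻¹) := by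
            rw [Matrix.diagonal_mul_diagonal]
            have h2 : (fun i => a i * (a i)⁻¹) = fun _ => (1 : F) := funext fun i => mul_inv_cancel₀ (h0 i)
            rw [h2, Matrix.diagonal_one, Matrix.mul_one]
        _ = Matrix.diagonal fun i => (a i)⁻¹ := by rw [← ha, ← Matrix.mul_assoc, h1, Matrix.one_mul]

theorem mat_pow_diag {t : SU n F q} {a : Fin n → F} (h : mat t = Matrix.diagonal a) (k : ℕ) :
    mat (t ^ k) = Matrix.diagonal fun i => a i ^ k := by
  induction k with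
  | zero => simp only [pow_zero]; rw [mat_one, Matrix.diagonal_one]
  | succ k ih => rw [pow_succ, mat_mul, ih, h, Matrix.diagonal_mul_diagonal]; simp only [pow_succ]

theorem isPGroup_dg {p k : ℕ} : IsPGroup p (dg n F q (p ^ k)) := by
  rintro ⟨t, a, ha, ha'⟩
  refine ⟨k, Subtype.ext ?_⟩
  apply mat_injective
  change mat (t ^ p ^ k) = mat (1 : SU n F q)
  rw [mat_pow_diag ha, mat_one]
  simp only [ha']
  exact Matrix.diagonal_one

theorem mat_perm_conj {σ : Equiv.Perm (Fin n)} (hσ : Equiv.Perm.sign σ = 1) {t : SU n F q} {a : Fin n → F}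
    (ha : mat t = Matrix.diagonal a) :
    mat (suPerm (F := F) q σ hσ * t * (suPerm (F := F) q σ hσ)⁻¹) = Matrix.diagonal fun i => a (σ i) := by
  have h1 : mat (suPerm (F := F) q σ hσ) * mat t =
      Matrix.diagonal (fun i => a (σ i)) * mat (suPerm (F := F) q σ hσ) := by
    rw [ha]
    exact perm_mul_diag σ a
  have h2 : mat (suPerm (F := F) q σ hσ) * mat (suPerm (F := F) q σ hσ)⁻¹ = 1 := by
    rw [← mat_mul, mul_inv_cancel, mat_one]
  rw [mat_mul, mat_mul, h1, Matrix.mul_assoc, h2, Matrix.mul_one]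

theorem perm_conj {σ : Equiv.Perm (Fin n)} (hσ : Equiv.Perm.sign σ = 1) {N : ℕ} {t : SU n F q}
    (ht : t ∈ dg n F q N) : suPerm (F := F) q σ hσ * t * (suPerm (F := F) q σ hσ)⁻¹ ∈ dg n F q N := by
  obtain ⟨a, ha, ha'⟩ := ht
  exact ⟨fun i => a (σ i), mat_perm_conj hσ ha, fun i => ha' _⟩

theorem mat_suPerm_pow {σ : Equiv.Perm (Fin n)} (hσ : Equiv.Perm.sign σ = 1) (k : ℕ) :
    mat (suPerm (F := F) q σ hσ ^ k) = (σ ^ k).permMatrix F := by
  induction k with
  | zero => rw [pow_zero, pow_zero, mat_one, Matrix.permMatrix_one]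
  | succ k ih =>
    rw [pow_succ, mat_mul, ih, pow_succ', Matrix.permMatrix_mul]
    rfl

theorem suPerm_inv {σ : Equiv.Perm (Fin n)} (hσ : Equiv.Perm.sign σ = 1) :
    (suPerm (F := F) q σ hσ)⁻¹ = suPerm (F := F) q σ⁻¹ (by rw [map_inv, hσ, inv_one]) := by
  rw [inv_eq_iff_mul_eq_one]
  apply mat_injective
  rw [mat_mul, mat_one]
  change σ.permMatrix F * σ⁻¹.permMatrix F = 1
  rw [← Matrix.permMatrix_mul, inv_mul_cancel, Matrix.permMatrix_one]

theorem isPGroup_mon {p k : ℕ} [Fact p.Prime] {σ : Equiv.Perm (Fin n)} (hσ : Equiv.Perm.sign σ = 1) (h : σ ^ p = 1) :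
    IsPGroup p (zpowers (suPerm (F := F) q σ hσ) ⊔ dg n F q (p ^ k) : Subgroup (SU n F q)) := by
  refine IsPGroup.to_sup_of_normal_right' ?_ isPGroup_dg ?_
  · have h1 : suPerm (F := F) q σ hσ ^ p ^ 1 = 1 := by
      apply mat_injective
      rw [pow_one, mat_suPerm_pow, h, mat_one, Matrix.permMatrix_one]
    rintro ⟨x, hx⟩
    obtain ⟨i, rfl⟩ := mem_zpowers_iff.1 hx
    refine ⟨1, Subtype.ext ?_⟩
    change (suPerm (F := F) q σ hσ ^ i) ^ p ^ 1 = 1
    rw [← zpow_natCast, ← _root_.zpow_mul, mul_comm, _root_.zpow_mul, zpow_natCast, h1, _root_.one_zpow]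
  · rw [zpowers_le, mem_normalizer_iff]
    intro t
    refine ⟨fun ht => perm_conj hσ ht, fun ht => ?_⟩
    have h2 := perm_conj (σ := σ⁻¹) (by rw [map_inv, hσ, inv_one]) ht
    rw [← suPerm_inv hσ] at h2
    have h3 : (suPerm (F := F) q σ hσ)⁻¹ * (suPerm (F := F) q σ hσ * t * (suPerm (F := F) q σ hσ)⁻¹) *
        (suPerm (F := F) q σ hσ)⁻¹⁻¹ = t := by group
    rwa [h3] at h2

variable [Fintype F]

/-- an element of norm one of order `p ^ k` -/
theorem exists_zeta (hF : Fintype.card F = q ^ 2) {p k : ℕ} (h : p ^ k ∣ q + 1) :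
    ∃ ζ : Fˣ, orderOf ζ = p ^ k := by
  obtain ⟨g, hg⟩ := IsCyclic.exists_generator (α := Fˣ)
  have h1 : orderOf g = Nat.card Fˣ := orderOf_eq_card_of_forall_mem_zpowers hg
  rw [card_units_eq hF] at h1
  obtain ⟨m, hm⟩ := h
  have hpos : 0 < orderOf g := orderOf_pos g
  have h2 : orderOf g = (m * (q - 1)) * p ^ k := by rw [h1, hm]; ring
  have h3 : m * (q - 1) ≠ 0 := by
    intro h0
    rw [h2, h0, zero_mul] at hpos
    exact lt_irrefl _ hpos
  refine ⟨g ^ (m * (q - 1)), ?_⟩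
  rw [orderOf_pow_of_dvd h3 (Dvd.intro _ h2.symm)]
  exact Nat.div_eq_of_eq_mul_right (Nat.pos_of_ne_zero h3) h2

/-- **the abelian case** -/
theorem three_of_ab {p : ℕ} [Fact p.Prime] (hp2 : p ≠ 2) (hF : Fintype.card F = q ^ 2) (hn : 3 ≤ n) (hpn : p ∣ n)
    (hpq : p ∣ q + 1) (hab : AbSyl p (PSU n F q)) : n = 3 ∧ p = 3 ∧ ¬ 9 ∣ q + 1 := by
  classical
  have hp : p.Prime := Fact.out
  have hp3 : 3 ≤ p := by
    have := hp.two_le
    omega
  have hodd : Odd p := hp.odd_of_ne_two hp2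
  obtain ⟨m, hm⟩ := hpn
  have hm0 : 0 < m := by
    rcases Nat.eq_zero_or_pos m with h | h
    · rw [h, mul_zero] at hm
      omega
    · exact h
  have hnz : NeZero n := ⟨by omega⟩
  have h3m : 3 * m ≤ n := by rw [hm]; exact Nat.mul_le_mul_right m hp3
  have hσp : tr n m ^ p = 1 := tr_pow hm
  have hσ : Equiv.Perm.sign (tr n m) = 1 := sign_eq_one hodd hσp
  set k := (q + 1).factorization p with hk
  have hk0 : 0 < k := hp.factorization_pos_of_dvd (Nat.succ_ne_zero q) hpq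
  obtain ⟨ζ, hζ⟩ := exists_zeta hF (Nat.ordProj_dvd (q + 1) p)
  rw [← hk] at hζ
  have hζk : (ζ : F) ^ p ^ k = 1 := by
    rw [← Units.val_pow_eq_pow_val, ← hζ, pow_orderOf_eq_one, Units.val_one]
  have hζi : ((ζ⁻¹ : Fˣ) : F) ^ p ^ k = 1 := by
    rw [← Units.val_pow_eq_pow_val, inv_pow, ← hζ, pow_orderOf_eq_one, inv_one, Units.val_one]
  let i0 : Fin n := ⟨0, by omega⟩
  let i1 : Fin n := ⟨1, by omega⟩
  let a : Fin n → F := fun i => (Pi.mulSingle i0 (ζ : F) : Fin n → F) i * (Pi.mulSingle i1 ((ζ⁻¹ : Fˣ) : F) : Fin n → F) i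
  have ha0 : ∀ i : Fin n, i.val = 0 → a i = ζ := by
    intro i hi
    have h1 : i = i0 := Fin.ext hi
    have h2 : i ≠ i1 := by
      intro h
      rw [h] at hi
      exact absurd hi (by simp [i1])
    simp only [a]
    rw [Pi.mulSingle_eq_of_ne h2, h1, Pi.mulSingle_eq_same, mul_one]
  have ha1 : ∀ i : Fin n, i.val = 1 → a i = ((ζ⁻¹ : Fˣ) : F) := by
    intro i hi
    have h1 : i = i1 := Fin.ext hi
    have h2 : i ≠ i0 := by
      intro h
      rw [h] at hi
      exact absurd hi (by simp [i0])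
    simp only [a]
    rw [Pi.mulSingle_eq_of_ne h2, h1, Pi.mulSingle_eq_same, one_mul]
  have ha2 : ∀ i : Fin n, 2 ≤ i.val → a i = 1 := by
    intro i hi
    have h1 : i ≠ i0 := by
      intro h
      rw [h] at hi
      exact absurd hi (by simp [i0])
    have h2 : i ≠ i1 := by
      intro h
      rw [h] at hi
      exact absurd hi (by simp [i1])
    simp only [a]
    rw [Pi.mulSingle_eq_of_ne h2, Pi.mulSingle_eq_of_ne h1, one_mul]
  have hak : ∀ i, a i ^ p ^ k = 1 := by
    intro i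
    rcases (by omega : i.val = 0 ∨ i.val = 1 ∨ 2 ≤ i.val) with h | h | h
    · rw [ha0 i h, hζk]
    · rw [ha1 i h, hζi]
    · rw [ha2 i h, one_pow]
  have hprod : ∏ i, a i = 1 := by
    simp only [a]
    rw [Finset.prod_mul_distrib, Finset.prod_pi_mulSingle', Finset.prod_pi_mulSingle', if_pos (Finset.mem_univ _),
      if_pos (Finset.mem_univ _), Units.mul_inv]
  have haq : ∀ i, a i ^ (q + 1) = 1 := by
    intro i
    obtain ⟨l, hl⟩ := Nat.ordProj_dvd (q + 1) p
    rw [← hk] at hl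
    rw [hl, pow_mul, hak, one_pow]
  set t : SU n F q := suDiag q a hprod haq with ht
  have hmt : mat t = Matrix.diagonal a := rfl
  set s : SU n F q := suPerm (F := F) q (tr n m) hσ with hs
  have hPG := isPGroup_mon (F := F) (q := q) (k := k) hσ hσp
  obtain ⟨P, hP⟩ := (hPG.map (pr n F q)).exists_le_sylow
  have hsP : pr n F q s ∈ (P : Subgroup (PSU n F q)) :=
    hP (mem_map_of_mem _ ((le_sup_left : zpowers s ≤ _) (mem_zpowers s)))
  have htP : pr n F q t ∈ (P : Subgroup (PSU n F q)) :=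
    hP (mem_map_of_mem _ ((le_sup_right : dg n F q (p ^ k) ≤ _) ⟨a, hmt, hak⟩))
  have hc := hab P _ hsP _ htP
  have h1 : pr n F q t = pr n F q (s * t * s⁻¹) := by
    rw [map_mul, map_mul, map_inv, hc, mul_inv_cancel_right]
  obtain ⟨z, hz, hz'⟩ := exists_center_mul h1
  obtain ⟨c, hcn, hcq, rfl⟩ := (mem_center_SU_iff hF hn z).1 hz
  have h2 := congrArg mat hz'
  rw [mat_perm_conj hσ hmt, mat_mul, hmt] at h2
  have h3 : mat (suScalar q c hcn hcq : SU n F q) = Matrix.diagonal fun _ => c := rfl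
  rw [h3, Matrix.diagonal_mul_diagonal] at h2
  have h4 : ∀ i, a (tr n m i) = a i * c := fun i => congrFun (Matrix.diagonal_injective h2) i
  have hv0 : ((tr n m i0 : Fin n) : ℕ) = m := by
    rw [tr_val]
    simp only [i0, zero_add]
    exact Nat.mod_eq_of_lt (by omega)
  have hv1 : ((tr n m i1 : Fin n) : ℕ) = m + 1 := by
    rw [tr_val]
    simp only [i1]
    rw [add_comm 1 m]
    exact Nat.mod_eq_of_lt (by omega)
  have e0 := h4 i0
  have e1 := h4 i1
  rw [ha2 _ (by omega : 2 ≤ ((tr n m i1 : Fin n) : ℕ)), ha1 i1 rfl] at e1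
  have hcζ : c = ζ := by
    have h5 : (ζ : F) * (((ζ⁻¹ : Fˣ) : F) * c) = ζ := by rw [← e1, mul_one]
    rw [← mul_assoc, Units.mul_inv, one_mul] at h5
    exact h5
  rw [ha0 i0 rfl, hcζ] at e0
  rcases (by omega : m = 1 ∨ 2 ≤ m) with h5 | h5
  · rw [ha1 _ (by omega : ((tr n m i0 : Fin n) : ℕ) = 1)] at e0
    have h6 : ζ ^ 3 = 1 := by
      apply Units.ext
      rw [Units.val_pow_eq_pow_val, Units.val_one, pow_succ, pow_two, ← e0, Units.inv_mul]
    have h7 : p ^ k ∣ 3 := by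
      rw [← hζ]
      exact orderOf_dvd_of_pow_eq_one h6
    have h8 : p ∣ 3 := (dvd_pow_self p hk0.ne').trans h7
    have h9 : p = 3 := (Nat.prime_dvd_prime_iff_eq hp Nat.prime_three).1 h8
    refine ⟨by rw [hm, h9, h5], h9, fun h => ?_⟩
    have h10 : 2 ≤ k := by
      rw [hk, h9]
      exact (Nat.Prime.pow_dvd_iff_le_factorization Nat.prime_three (Nat.succ_ne_zero q)).1 (by norm_num; exact h)
    have h11 : 3 ^ 2 ∣ 3 := by
      rw [h9] at h7
      exact (pow_dvd_pow 3 h10).trans h7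
    norm_num at h11
  · exfalso
    rw [ha2 _ (by omega : 2 ≤ ((tr n m i0 : Fin n) : ℕ))] at e0
    have h6 : ζ ^ 2 = 1 := by
      apply Units.ext
      rw [Units.val_pow_eq_pow_val, Units.val_one, pow_two, ← e0]
    have h7 : p ^ k ∣ 2 := by
      rw [← hζ]
      exact orderOf_dvd_of_pow_eq_one h6
    have h8 : p ∣ 2 := (dvd_pow_self p hk0.ne').trans h7
    have h9 := Nat.le_of_dvd (by norm_num) h8
    omega

end mon

end Cfsg.Agent.H564.HT
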