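import Cfsg.Agent.H564.HT.PsuCov
import Cfsg.Agent.H564.HT.PsuMon
import Cfsg.Agent.H564.HT.Cop
import Cfsg.Agent.H679.HT.SuElt
import Cfsg.Agent.H679.HT.SuOut
import Cfsg.Agent.H688.HT.Three
import Cfsg.Agent.H892.HT.Disp

/-!
# S4933, part (O), box O.cl.psu (helper564)

* `row_psu_ndvd` : `p ∤ |PSU|`;
* `row_psu_dvd`  : `p ∣ |PSU|`, `p ∤ gcd n (q + 1)`;
* `row_psu`      : abelian Sylow `p`-subgroups, `p` odd, `p ∤ q`;
* `psu`          : field `psu` of `OAb`.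
-/

set_option autoImplicit false
set_option linter.unusedSectionVars false

open Subgroup Polynomial Matrix

namespace Cfsg.Agent.H564.HT

open Cfsg Cfsg.Agent.H316.HT Cfsg.Agent.H37.HT Cfsg.Agent.H722.HT
open Cfsg.Agent.ClassicalGeometry.PSUAutCount Cfsg.Agent.ClassicalGeometry.UnitAutBasic

section psu

variable {F : Type} [Field F] [Fintype F] {q n p : ℕ} [Fact p.Prime]

theorem not_three_two [hs : IsSimpleGroup (PSU n F q)] (hF : Fintype.card F = q ^ 2) : ¬ (n = 3 ∧ q = 2) := by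
  rintro ⟨rfl, rfl⟩
  obtain ⟨h1, h2⟩ := S0282.result (F := F) (by rw [hF]; norm_num)
  have h3 : ∀ a b : PSU 3 F 2, a * b = b * a := by
    have : IsSolvable (PSU 3 F 2) := h2
    exact (IsSimpleGroup.comm_iff_isSolvable (G := PSU 3 F 2)).2 h2
  letI : CommGroup (PSU 3 F 2) := { (inferInstance : Group (PSU 3 F 2)) with mul_comm := h3 }
  have h4 : (Nat.card (PSU 3 F 2)).Prime := IsSimpleGroup.prime_card
  rw [h1] at h4
  exact absurd h4 (by norm_num)

theorem row_psu_ndvd (hF : Fintype.card F = q ^ 2) (hn : 3 ≤ n) (h32 : ¬ (n = 3 ∧ q = 2))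
    (hg : ¬ p ∣ Nat.gcd n (q + 1)) (hS : ¬ p ∣ Nat.card (PSU n F q)) : Row p (PSU n F q) := by
  have hp : p.Prime := Fact.out
  obtain ⟨r, f, hr, hch, hq, hf⟩ := Cfsg.Agent.LieClassical.HermBasic.exists_prime_pow hF
  have : Fact r.Prime := ⟨hr⟩
  have hfin : Finite (PSU n F q) := Finite.of_surjective _ (pr_surjective (n := n) (F := F) (q := q))
  have hcF : Fintype.card F = r ^ (2 * f) := by rw [hF, hq, ← pow_mul, mul_comm]
  refine row_of_orderOf (phi n F q r) ?_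
  rw [orderOf_phi hF hn hcF (by omega), S0815.result r f hf hq hF n hn h32]
  have h0 : Nat.gcd n (q + 1) ≠ 0 := by
    intro h1
    have := Nat.eq_zero_of_gcd_eq_zero_right h1
    omega
  rw [Nat.factorization_mul (Nat.mul_ne_zero h0 (by omega)) Nat.card_pos.ne', Nat.factorization_mul h0 (by omega)]
  simp only [Finsupp.add_apply]
  rw [Nat.factorization_eq_zero_of_not_dvd hg, Nat.factorization_eq_zero_of_not_dvd hS, zero_add, add_zero]

theorem row_psu_dvd (hp2 : p ≠ 2) (hF : Fintype.card F = q ^ 2) (hn : 3 ≤ n) (h32 : ¬ (n = 3 ∧ q = 2)) (hpq : ¬ p ∣ q)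
    (hg : ¬ p ∣ Nat.gcd n (q + 1)) (hS : p ∣ Nat.card (PSU n F q)) (hab : AbSyl p (PSU n F q)) :
    Row p (PSU n F q) := by
  have hp : p.Prime := Fact.out
  obtain ⟨r, f, hr, hch, hq, hf⟩ := Cfsg.Agent.LieClassical.HermBasic.exists_prime_pow hF
  have : Fact r.Prime := ⟨hr⟩
  have hfinS : Finite (SU n F q) := inferInstance
  have hfin : Finite (PSU n F q) := Finite.of_surjective _ (pr_surjective (n := n) (F := F) (q := q))
  have hcF : Fintype.card F = r ^ (2 * f) := by rw [hF, hq, ← pow_mul, mul_comm]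
  have hrp : r ≠ p := by
    rintro rfl
    exact hpq (by rw [hq]; exact dvd_pow_self r hf.ne')
  have hpF : (p : F) ≠ 0 := by
    intro h
    have h1 := (CharP.cast_eq_zero_iff F r p).1 h
    exact hrp ((Nat.prime_dvd_prime_iff_eq hr hp).1 h1)
  obtain ⟨E, hE, hsurj⟩ := exists_ed (S := PSU n F q) (T := SU n F q) hcF hpF hab (pr n F q) pr_surjective ker_comm
    (by rw [card_ker_pr hF hn]; exact hg) (rep n F q)
  refine row_of_cov hp2 hr hrp (by omega : 0 < 2 * f) hcF hab (Cfsg.Agent.H679.HT.out_psu hr hf hq hF hn h32 hg)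
    (pr n F q) cp E hE hsurj ?_ (phi n F q r) (frobenius F r) (fun a => rfl) cov_phi ?_ ?_
  · intro e m ω he ho hm h1 h2 hω
    have h3 : r ^ (2 * f) = q ^ 2 := by rw [← hcF, hF]
    rw [h3] at ho h1 h2
    exact Cfsg.Agent.H679.HT.elt_su hF hp2 hpq (by omega) hS e m ω he ho hm h1 h2 hω
  · refine ⟨1, fun h => hp.one_lt.ne' (Nat.dvd_one.1 h), ?_⟩
    rw [one_mul, phi_pow hcF]
    exact one_mem _
  · intro g
    obtain ⟨A, ρ, rfl⟩ := Cfsg.Agent.ClassicalGeometry.PSUAutMain.exists_toAut hF hn h32 g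
    exact cov_conj A ρ

/-- **the row** -/
theorem row_psu [hs : IsSimpleGroup (PSU n F q)] (hp2 : p ≠ 2) (hF : Fintype.card F = q ^ 2) (hn : 3 ≤ n)
    (hpq : ¬ p ∣ q) (hab : AbSyl p (PSU n F q)) : Row p (PSU n F q) := by
  have h32 : ¬ (n = 3 ∧ q = 2) := not_three_two hF
  by_cases hg : p ∣ Nat.gcd n (q + 1)
  · obtain ⟨rfl, rfl, h9⟩ := three_of_ab hp2 hF hn (hg.trans (Nat.gcd_dvd_left _ _)) (hg.trans (Nat.gcd_dvd_right _ _)) hab
    exact Cfsg.Agent.H688.HT.row_psu3 F q hF (hg.trans (Nat.gcd_dvd_right _ _)) h9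
  · by_cases hS : p ∣ Nat.card (PSU n F q)
    · exact row_psu_dvd hp2 hF hn h32 hpq hg hS hab
    · exact row_psu_ndvd hF hn h32 hg hS

end psu

/-- **field `psu` of `OAb`** -/
theorem psu (p : ℕ) [Fact p.Prime] (F : Type) [Field F] [Fintype F] (n q : ℕ) [IsSimpleGroup (PSU n F q)]
    (hp2 : p ≠ 2) (hn : 3 ≤ n) (hF : Fintype.card F = q ^ 2) (hpq : ¬ p ∣ q) (hab : H892.HT.Ab p (PSU n F q)) :
    Row p (PSU n F q) :=
  row_psu hp2 hF hn hpq fun P x hx y hy =>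
    congrArg Subtype.val ((hab P).is_comm.comm (⟨x, hx⟩ : (P : Subgroup (PSU n F q))) ⟨y, hy⟩)

end Cfsg.Agent.H564.HT
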