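import Cfsg.Agent.H218.HT.DDD4
import Cfsg.Agent.H121.E6Mem
import Cfsg.Agent.LieClassical.HermBasic

/-!
# S4933, own characteristic: `Q'' ≠ 1` in `²E₆(q)`, every `q` (helper564)

The long root elements `x_r(1)`, `r` fixed by the graph automorphism (a subsystem `D₄`).
-/

set_option autoImplicit false

namespace Cfsg.Agent.H564.HT

open Cfsg Cfsg.Lie Cfsg.Agent.ChevalleyStructure Cfsg.Agent.ChevalleyStructure.Elts
  Cfsg.Agent.ChevalleyStructure.UnipOrd Cfsg.Agent.H218.HT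
open Cfsg.Agent.H720.HT (DD)
open scoped commutatorElement

/-- **`²E₆(q)`** -/
theorem dd_E6t (K : Type*) [Field K] {p : ℕ} [Fact p.Prime] [CharP K p] [Fintype K] {q : ℕ}
    (hK : Fintype.card K = q ^ 2) : DD p ↥(twistedE6 K q) := by
  have hD : UnipOrd.InList chevE6 := by simp
  have hφ : ∀ t : K, (LieClassical.HermBasic.conj hK : K →+* K) t = t ^ q := fun t => rfl
  have hφφ : ∀ t : K, (LieClassical.HermBasic.conj hK : K →+* K) ((LieClassical.HermBasic.conj hK : K →+* K) t) = t :=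
    fun t => LieClassical.HermBasic.pow_q_pow_q hK t
  have hm : ∀ {r : ℕ}, H121.E6M.lo r = true → xG hD r (1 : K) ∈ twistedE6 K q := fun hr =>
    H121.E6M.mem1 hφ hφφ hr (map_one _)
  have hpos : ∀ {r : ℕ} (hr : H121.E6M.lo r = true), chevE6.nroots / 2 ≤ r → r < chevE6.nroots →
      (⟨xG hD r 1, hm hr⟩ : ↥(twistedE6 K q)) ∈ (chevE6.posUnipotent K).subgroupOf (twistedE6 K q) :=
    fun hr h1 h2 => Subgroup.mem_subgroupOf.2 (xG_mem_posUnipotent hD (pos_of hD h1 h2) 1)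
  have hne : ∀ {r s : ℕ}, okPair chevE6 r s → s ≠ chevE6.neg r := fun o =>
    UnipProd.ne_neg_of_pos hD (pos_of hD o.1 o.2.1) (pos_of hD o.2.2.1 o.2.2.2.1)
  have o₁ : okPair chevE6 44 63 := by decide +kernel
  have o₂ : okPair chevE6 39 46 := by decide +kernel
  have o₃ : okPair chevE6 47 69 := by decide +kernel
  refine DD.of_mem _ (isPGroup_pos_subgroupOf hD (twistedE6 K q)) (hpos (r := 63) (by decide +kernel) o₁.2.2.1 o₁.2.2.2.1)
    (hpos (r := 44) (by decide +kernel) o₁.1 o₁.2.1) (hpos (r := 46) (by decide +kernel) o₂.2.2.1 o₂.2.2.2.1)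
    (hpos (r := 39) (by decide +kernel) o₂.1 o₂.2.1) ?_
  intro h
  have h4 : ⁅⁅xG hD 63 (1 : K), xG hD 44 (1 : K)⁆, ⁅xG hD 46 (1 : K), xG hD 39 (1 : K)⁆⁆ = 1 := congrArg Subtype.val h
  rw [comm_one (k := 69) (c := -1) hD o₁.2.1 o₁.2.2.2.1 o₁.2.2.2.2 (hne o₁) (by decide +kernel),
    comm_one (k := 47) (c := 1) hD o₂.2.1 o₂.2.2.2.1 o₂.2.2.2.2 (hne o₂) (by decide +kernel),
    comm_one (k := 71) (c := -1) hD o₃.2.1 o₃.2.2.2.1 o₃.2.2.2.2 (hne o₃) (by decide +kernel),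
    xG_eq_one_iff hD (by decide +kernel)] at h4
  revert h4
  simp

end Cfsg.Agent.H564.HT
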