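import Cfsg.Agent.H722.HT.Frame
import Cfsg.Agent.ClassicalGeometry.PSUAutMain
import Cfsg.Agent.S0279
import Cfsg.Agent.S0282
import Cfsg.Agent.S0815

/-!
# S4933, part (O), box O.cl.psu: the covering `SU → PSU` and the automorphisms (helper564)

* `cp` : the characteristic polynomial on `SU`;
* `Cc α τ` : `cp (α t) = (cp t).map τ`;
* `card_ker_pr` : the kernel of `SU → PSU` has order `gcd n (q + 1)`;
* `phi` : the automorphism `x ↦ x ^ r` of the entries; `phi_pow`, `cov_phi`, `cov_conj`.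
-/

set_option autoImplicit false
set_option linter.unusedSectionVars false

open Subgroup Polynomial Matrix

namespace Cfsg.Agent.H564.HT

open Cfsg Cfsg.Agent.H316.HT Cfsg.Agent.H37.HT Cfsg.Agent.H722.HT
open Cfsg.Agent.LieClassical.HermSiegel Cfsg.Agent.LieClassical.FieldTransfer
open Cfsg.Agent.ClassicalGeometry.PSUAutCount Cfsg.Agent.ClassicalGeometry.UnitAutBasic

section cov

variable {F : Type} [Field F] {q n : ℕ}

/-- the characteristic polynomial -/
noncomputable def cp (t : SU n F q) : F[X] :=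
  ((t : Matrix.SpecialLinearGroup (Fin n) F) : Matrix (Fin n) (Fin n) F).charpoly

/-- `α` acts on the characteristic polynomials as `τ` -/
def Cc (α : MulAut (SU n F q)) (τ : F ≃+* F) : Prop := ∀ t, cp (α t) = (cp t).map (τ : F →+* F)

theorem Cc.mul {α β : MulAut (SU n F q)} {τ σ : F ≃+* F} (h : Cc α τ) (h' : Cc β σ) : Cc (α * β) (σ.trans τ) := by
  intro t
  rw [MulAut.mul_apply, h, h', Polynomial.map_map]
  rfl

theorem Cc.inv {α : MulAut (SU n F q)} {τ : F ≃+* F} (h : Cc α τ) : Cc α⁻¹ τ.symm := by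
  intro t
  have h1 := h (α⁻¹ t)
  rw [MulAut.apply_inv_self] at h1
  rw [h1, Polynomial.map_map]
  have h2 : (τ.symm : F →+* F).comp (τ : F →+* F) = RingHom.id F := by
    ext a
    simp
  rw [h2, Polynomial.map_id]

theorem Cc.congr {α : MulAut (SU n F q)} {τ σ : F ≃+* F} (h : Cc α τ) (h' : ∀ a, τ a = σ a) : Cc α σ := by
  intro t
  rw [h t]
  congr 1
  ext a
  exact h' a

theorem cc_semiConj (A : Cfsg.GU n F q) (ρ : F ≃+* F) : Cc (semiConj A ρ) ρ := by
  intro t
  have h1 : ((semiConj A ρ t : Matrix.SpecialLinearGroup (Fin n) F) : Matrix (Fin n) (Fin n) F) =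
      gm A * ((t : Matrix.SpecialLinearGroup (Fin n) F) : Matrix (Fin n) (Fin n) F).map ρ * gm A⁻¹ := rfl
  have h2 : gm A⁻¹ * gm A = 1 := gm_inv_mul A
  unfold cp
  rw [h1, Matrix.charpoly_mul_comm, ← Matrix.mul_assoc, h2, Matrix.one_mul]
  exact Matrix.charpoly_map _ (ρ : F →+* F)

/-- the projection -/
theorem card_ker_pr [Fintype F] (hF : Fintype.card F = q ^ 2) (hn : 3 ≤ n) :
    Nat.card (pr n F q).ker = Nat.gcd n (q + 1) := by
  have h1 : (pr n F q).ker = Subgroup.center (SU n F q) := QuotientGroup.ker_mk' _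
  rw [h1]
  exact S0279.result hF n hn

theorem ker_comm : ∀ z ∈ (pr n F q).ker, ∀ x : SU n F q, z * x = x * z := by
  intro z hz x
  have h1 : (pr n F q).ker = Subgroup.center (SU n F q) := QuotientGroup.ker_mk' _
  rw [h1, Subgroup.mem_center_iff] at hz
  exact (hz x).symm

/-- the matrices -/
def rep (n : ℕ) (F : Type) [Field F] (q : ℕ) : SU n F q →* Matrix (Fin n) (Fin n) F where
  toFun t := ((t : Matrix.SpecialLinearGroup (Fin n) F) : Matrix (Fin n) (Fin n) F)
  map_one' := rfl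
  map_mul' _ _ := rfl

theorem toAut_pow_pr (A : Cfsg.GU n F q) (ρ : F ≃+* F) (k : ℕ) (t : SU n F q) :
    (toAut A ρ ^ k) (pr n F q t) = pr n F q ((semiConj A ρ ^ k) t) := by
  induction k generalizing t with
  | zero => rfl
  | succ k ih => rw [pow_succ, pow_succ, MulAut.mul_apply, MulAut.mul_apply, toAut_pr, ih]

theorem mat_semiConj_one_pow (ρ : F ≃+* F) (k : ℕ) (t : SU n F q) (i j : Fin n) :
    mat ((semiConj (1 : Cfsg.GU n F q) ρ ^ k) t) i j = (ρ ^ k) (mat t i j) := by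
  induction k generalizing t with
  | zero => rfl
  | succ k ih =>
    rw [pow_succ, MulAut.mul_apply, ih, pow_succ, RingAut.mul_apply]
    congr 1
    have h1 : mat (semiConj (1 : Cfsg.GU n F q) ρ t) = gm (1 : Cfsg.GU n F q) * (mat t).map ρ * gm (1 : Cfsg.GU n F q)⁻¹ :=
      rfl
    rw [h1, inv_one, gm_one, Matrix.one_mul, Matrix.mul_one, Matrix.map_apply]

/-- `ρ ^ k = 1` gives `φ ^ k = 1` -/
theorem toAut_one_pow {ρ : F ≃+* F} {k : ℕ} (h : ∀ a, (ρ ^ k) a = a) : toAut (1 : Cfsg.GU n F q) ρ ^ k = 1 := by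
  ext x
  obtain ⟨t, rfl⟩ := pr_surjective x
  rw [toAut_pow_pr, MulAut.one_apply]
  congr 1
  apply mat_injective
  ext i j
  rw [mat_semiConj_one_pow, h]

/-- the converse -/
theorem pow_eq_of_toAut_one_pow [Fintype F] (hF : Fintype.card F = q ^ 2) (hn : 3 ≤ n) {ρ : F ≃+* F} {k : ℕ}
    (h : toAut (1 : Cfsg.GU n F q) ρ ^ k = 1) (a : F) : (ρ ^ k) a = a := by
  have h1 : toAut (1 : Cfsg.GU n F q) (ρ ^ k) = toAut 1 1 := by
    rw [show toAut (1 : Cfsg.GU n F q) (1 : F ≃+* F) = 1 by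
      have h2 : toAut (1 : Cfsg.GU n F q) (1 : F ≃+* F) ^ 1 = 1 := toAut_one_pow (fun a => rfl)
      rwa [pow_one] at h2]
    rw [← h]
    ext x
    obtain ⟨t, rfl⟩ := pr_surjective x
    rw [toAut_pow_pr, toAut_pr]
    congr 1
    apply mat_injective
    ext i j
    have h3 := mat_semiConj_one_pow (n := n) (q := q) (ρ ^ k) 1 t i j
    rw [pow_one, pow_one] at h3
    rw [h3, mat_semiConj_one_pow]
  have h2 := (eq_of_toAut_eq hF hn h1).1
  exact (DFunLike.congr_fun h2 a).symm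

section frob

variable [Fintype F] {r f : ℕ}

/-- `a ↦ a ^ r` -/
noncomputable def fr (F : Type) [Field F] [Fintype F] (r : ℕ) [Fact r.Prime] [CharP F r] : F ≃+* F := frobeniusEquiv F r

variable [Fact r.Prime] [CharP F r]

theorem fr_apply (a : F) : fr F r a = a ^ r := rfl

theorem fr_pow_apply (k : ℕ) (a : F) : (fr F r ^ k) a = a ^ r ^ k := by
  induction k generalizing a with
  | zero => simp
  | succ k ih => rw [pow_succ, RingAut.mul_apply, ih, fr_apply, ← pow_mul, pow_succ']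

/-- the field automorphism of `PSU` -/
noncomputable def phi (n : ℕ) (F : Type) [Field F] [Fintype F] (q r : ℕ) [Fact r.Prime] [CharP F r] :
    MulAut (PSU n F q) := toAut 1 (fr F r)

theorem phi_pow (hr : Fintype.card F = r ^ f) : phi n F q r ^ f = 1 := by
  refine toAut_one_pow fun a => ?_
  rw [fr_pow_apply, ← hr, FiniteField.pow_card]

theorem le_of_phi_pow (hF : Fintype.card F = q ^ 2) (hn : 3 ≤ n) (hr : Fintype.card F = r ^ f) {k : ℕ} (hk : 0 < k)
    (h : phi n F q r ^ k = 1) : f ≤ k := by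
  classical
  have h1 : ∀ a : F, a ^ r ^ k = a := by
    intro a
    rw [← fr_pow_apply]
    exact pow_eq_of_toAut_one_pow hF hn h a
  have hr1 : 1 < r := (Fact.out : r.Prime).one_lt
  have h2 : 1 < r ^ k := Nat.one_lt_pow hk.ne' hr1
  have h3 : Fintype.card F ≤ r ^ k := by
    have h4 : (X ^ (r ^ k) - X : F[X]) ≠ 0 := FiniteField.X_pow_card_sub_X_ne_zero F h2
    have h5 : (Finset.univ : Finset F) ⊆ (X ^ (r ^ k) - X : F[X]).roots.toFinset := by
      intro a _
      rw [Multiset.mem_toFinset, Polynomial.mem_roots h4, Polynomial.IsRoot.def]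
      simp [h1 a]
    calc Fintype.card F = (Finset.univ : Finset F).card := rfl
      _ ≤ (X ^ (r ^ k) - X : F[X]).roots.toFinset.card := Finset.card_le_card h5
      _ ≤ Multiset.card (X ^ (r ^ k) - X : F[X]).roots := Multiset.toFinset_card_le _
      _ ≤ (X ^ (r ^ k) - X : F[X]).natDegree := Polynomial.card_roots' _
      _ = r ^ k := FiniteField.X_pow_card_sub_X_natDegree_eq F h2
  rw [hr] at h3
  exact (Nat.pow_le_pow_iff_right hr1).1 h3

theorem orderOf_phi (hF : Fintype.card F = q ^ 2) (hn : 3 ≤ n) (hr : Fintype.card F = r ^ f) (hf : 0 < f) :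
    orderOf (phi n F q r) = f := by
  have h1 : orderOf (phi n F q r) ∣ f := orderOf_dvd_of_pow_eq_one (phi_pow hr)
  refine Nat.le_antisymm (Nat.le_of_dvd hf h1) ?_
  exact le_of_phi_pow hF hn hr (Nat.pos_of_dvd_of_pos h1 hf) (pow_orderOf_eq_one _)

theorem cov_phi {p : ℕ} : Cov p (pr n F q) cp (frobenius F r) (phi n F q r) := by
  intro t ht
  refine ⟨semiConj 1 (fr F r) t, ?_, rfl, ?_⟩
  · obtain ⟨k, hk⟩ := ht
    exact ⟨k, by rw [← map_pow, hk, map_one]⟩
  · rw [cc_semiConj]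
    congr 1

theorem cov_conj {p : ℕ} (A : Cfsg.GU n F q) (ρ : F ≃+* F) :
    ∃ h : MulAut (PSU n F q), toAut A ρ * phi n F q r * (toAut A ρ)⁻¹ = h * phi n F q r ∧
      Cov p (pr n F q) cp (RingHom.id F) h := by
  refine ⟨toAut A ρ * phi n F q r * (toAut A ρ)⁻¹ * (phi n F q r)⁻¹, by rw [inv_mul_cancel_right], ?_⟩
  intro t ht
  let α : MulAut (SU n F q) := semiConj A ρ
  let β : MulAut (SU n F q) := semiConj 1 (fr F r)
  have hα : Cc α ρ := cc_semiConj A ρ
  have hβ : Cc β (fr F r) := cc_semiConj 1 _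
  have h1 : ∀ (B : Cfsg.GU n F q) (τ : F ≃+* F) (s : SU n F q), (toAut B τ)⁻¹ (pr n F q s) =
      pr n F q ((semiConj B τ)⁻¹ s) := by
    intro B τ s
    apply (toAut B τ).injective
    rw [MulAut.apply_inv_self, toAut_pr, MulAut.apply_inv_self]
  refine ⟨(α * β * α⁻¹ * β⁻¹) t, ?_, ?_, ?_⟩
  · obtain ⟨k, hk⟩ := ht
    exact ⟨k, by rw [← map_pow, hk, map_one]⟩
  · simp only [MulAut.mul_apply]
    unfold phi
    rw [h1, h1, toAut_pr, toAut_pr]
  · have h2 : Cc (α * β * α⁻¹ * β⁻¹) (RingEquiv.refl F) := by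
      refine (((hα.mul hβ).mul hα.inv).mul hβ.inv).congr fun a => ?_
      change ρ (fr F r (ρ.symm ((fr F r).symm a))) = a
      have h3 : fr F r (ρ.symm ((fr F r).symm a)) = ρ.symm a := by
        rw [fr_apply, ← map_pow, ← fr_apply, RingEquiv.apply_symm_apply]
      rw [h3, RingEquiv.apply_symm_apply]
    rw [h2 t]
    congr 1

end frob

end cov

end Cfsg.Agent.H564.HT
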